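import Groth.Agent.Lib.ModFlat.Basic
import Mathlib.LinearAlgebra.TensorProduct.Finiteness
import Mathlib.LinearAlgebra.TensorProduct.RightExactness
import Mathlib.LinearAlgebra.DirectSum.Finsupp

/-!
# Linear relations in sheaves of modules

`LocRel O F` says that every linear relation between sections of `F` is, locally, a combination of
relations between scalars. It implies flatness.
-/

universe u

open CategoryTheory Opposite Limits MonoidalCategory TensorProduct

namespace GrothLib.FlatRel25

variable {C : Type u} [SmallCategory C] {J : GrothendieckTopology C} {O : Sheaf J CommRingCat.{u}}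
  (F : ModSite.Mod O)

/-- Restriction of scalars. -/
noncomputable abbrev resR {U V : C} (g : V ⟶ U) (r : O.obj.obj (op U)) : O.obj.obj (op V) :=
  (O.obj.map g.op).hom r

/-- Restriction of sections. -/
noncomputable def res {U V : C} (g : V ⟶ U) : ModSite.sect F U →+ ModSite.sect F V :=
  AddMonoidHom.mk' (fun s => (F.val.map g.op).hom s) (fun _ _ => map_add _ _ _)

theorem res_apply {U V : C} (g : V ⟶ U) (s : ModSite.sect F U) :
    res F g s = (F.val.map g.op).hom s := rfl

theorem res_smul {U V : C} (g : V ⟶ U) (r : O.obj.obj (op U)) (s : ModSite.sect F U) :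
    res F g (r • s) = resR g r • res F g s := F.val.map_smul g.op r s

theorem res_res {U V W : C} (g : V ⟶ U) (h : W ⟶ V) (s : ModSite.sect F U) :
    res F h (res F g s) = res F (h ≫ g) s :=
  (PresheafOfModules.map_comp_apply F.val g.op h.op s).symm

theorem resR_resR {U V W : C} (g : V ⟶ U) (h : W ⟶ V) (r : O.obj.obj (op U)) :
    resR (O := O) h (resR g r) = resR (h ≫ g) r := by
  rw [resR, resR, resR, op_comp, O.obj.map_comp]
  rfl

/-- A finite set of relations trivialised over `V`. -/
def Triv {α β : Type*} [Fintype α] {U V : C} (g : V ⟶ U) (f : β → α → O.obj.obj (op U))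
    (s : α → ModSite.sect F U) : Prop :=
  ∃ (l : ℕ) (t : Fin l → ModSite.sect F V) (a : α → Fin l → O.obj.obj (op V)),
    (∀ i, res F g (s i) = ∑ k, a i k • t k) ∧ ∀ b k, ∑ i, a i k * resR g (f b i) = 0

variable {F}

theorem Triv.precomp {α β : Type*} [Fintype α] {U V W : C} {g : V ⟶ U} {f : β → α → O.obj.obj (op U)}
    {s : α → ModSite.sect F U} (h : Triv F g f s) (e : W ⟶ V) : Triv F (e ≫ g) f s := by
  obtain ⟨l, t, a, h1, h2⟩ := h
  refine ⟨l, fun k => res F e (t k), fun i k => resR e (a i k), fun i => ?_, fun b k => ?_⟩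
  · rw [← res_res, h1, map_sum]
    exact Finset.sum_congr rfl fun k _ => res_smul F e _ _
  · have := congrArg (resR (O := O) e) (h2 b k)
    simp only [resR, map_sum, map_mul, map_zero] at this ⊢
    rw [← this]
    exact Finset.sum_congr rfl fun i _ => by rw [op_comp, O.obj.map_comp]; rfl

/-- The sieve on which relations are trivial. -/
def trivSieve {α β : Type*} [Fintype α] {U : C} (f : β → α → O.obj.obj (op U))
    (s : α → ModSite.sect F U) : Sieve U where
  arrows _ g := Triv F g f s
  downward_closed h e := h.precomp e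

variable (F)

/-- Every linear relation between sections is locally trivial. -/
def LocRel : Prop :=
  ∀ (U : C) (α : Type u) [Fintype α] (f : α → O.obj.obj (op U)) (s : α → ModSite.sect F U),
    ∑ i, f i • s i = 0 → trivSieve (fun (_ : Unit) => f) s ∈ J U

theorem locRel_of_fin
    (h : ∀ (U : C) (n : ℕ) (f : Fin n → O.obj.obj (op U)) (s : Fin n → ModSite.sect F U),
      ∑ j, f j • s j = 0 → ∃ S ∈ J U, ∀ ⦃V : C⦄ (g : V ⟶ U), S g →
        ∃ (l : ℕ) (t : Fin l → ModSite.sect F V) (a : Fin n → Fin l → O.obj.obj (op V)),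
          (∀ j, (F.val.map g.op).hom (s j) = ∑ k, a j k • t k) ∧
          (∀ k, ∑ j, a j k * (O.obj.map g.op).hom (f j) = 0)) : LocRel F := by
  intro U α _ f s hsum
  let e := (Fintype.equivFin α).symm
  obtain ⟨S, hS, hS'⟩ := h U (Fintype.card α) (f ∘ e) (s ∘ e) ((e.sum_comp fun i => f i • s i).trans hsum)
  refine J.superset_covering (fun V g hg => ?_) hS
  obtain ⟨l, t, a, h1, h2⟩ := hS' g hg
  refine ⟨l, t, fun i => a (e.symm i), fun i => ?_, fun _ k => ?_⟩
  · have := h1 (e.symm i)
    simp only [Function.comp_apply, Equiv.apply_symm_apply] at this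
    exact this
  · refine Eq.trans ?_ (h2 k)
    exact ((e.sum_comp fun i => a (e.symm i) k * resR g (f i)).symm.trans
      (Finset.sum_congr rfl fun j _ => by simp only [Equiv.symm_apply_apply]; rfl))

variable {F}

theorem LocRel.finset (h : LocRel F) {U : C} {α : Type u} [Fintype α] {β : Type*}
    (r : β → α → O.obj.obj (op U)) (s : α → ModSite.sect F U) (T : Finset β)
    (hr : ∀ b ∈ T, ∑ i, r b i • s i = 0) :
    trivSieve (fun b : {b // b ∈ T} => r b.1) s ∈ J U := by
  classical
  induction T using Finset.induction_on with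
  | empty =>
    refine J.superset_covering (fun V g _ => ?_) (J.top_mem U)
    let e := Fintype.equivFin α
    refine ⟨Fintype.card α, fun k => res F g (s (e.symm k)), fun i k => if k = e i then 1 else 0,
      fun i => ?_, fun b => absurd b.2 (Finset.notMem_empty b.1)⟩
    simp only [ite_smul, one_smul, zero_smul, Finset.sum_ite_eq', Finset.mem_univ, if_true,
      Equiv.symm_apply_apply]
  | insert b T hb ih =>
    refine J.transitive (ih fun c hc => hr c (Finset.mem_insert_of_mem hc)) _ fun V g hg => ?_
    obtain ⟨l, t, a, h1, h2⟩ := hg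
    let φ : ULift.{u} (Fin l) → O.obj.obj (op V) := fun k => ∑ i, a i k.down * resR g (r b i)
    have hrel : ∑ k : ULift.{u} (Fin l), φ k • t k.down = 0 := by
      have h0 := congrArg (res F g) (hr b (Finset.mem_insert_self b T))
      rw [map_zero, map_sum] at h0
      refine Eq.trans ?_ h0
      refine (Equiv.ulift.sum_comp fun k : Fin l => (∑ i, a i k * resR g (r b i)) • t k).trans ?_
      simp only [res_smul, h1, Finset.smul_sum, Finset.sum_smul, smul_smul]
      rw [Finset.sum_comm]
      exact Finset.sum_congr rfl fun i _ => Finset.sum_congr rfl fun k _ => by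
        rw [mul_comm]
    refine J.superset_covering (fun W e he => ?_) (h V (ULift.{u} (Fin l)) φ (fun k => t k.down) hrel)
    obtain ⟨m, w, c, hc1, hc2⟩ := he
    refine ⟨m, w, fun i q => ∑ k, resR e (a i k) * c ⟨k⟩ q, fun i => ?_, fun d q => ?_⟩
    · rw [← res_res, h1, map_sum]
      simp only [res_smul, Finset.sum_smul]
      rw [Finset.sum_comm]
      refine Finset.sum_congr rfl fun k _ => ?_
      rw [hc1 ⟨k⟩, Finset.smul_sum]
      exact Finset.sum_congr rfl fun q _ => smul_smul _ _ _
    · simp only [Finset.sum_mul]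
      rw [Finset.sum_comm]
      obtain ⟨d, hd⟩ := d
      rcases Finset.mem_insert.1 hd with rfl | hd
      · refine Eq.trans ?_ (hc2 () q)
        refine Eq.trans ?_ (Equiv.ulift.symm.sum_comp fun k => c k q * resR e (φ k))
        refine Finset.sum_congr rfl fun k _ => ?_
        change _ = c ⟨k⟩ q * resR e (∑ i, a i k * resR g (r d i))
        simp only [resR, map_sum, map_mul, Finset.mul_sum, op_comp, O.obj.map_comp,
          CommRingCat.hom_comp, RingHom.comp_apply]
        exact Finset.sum_congr rfl fun i _ => by ring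
      · refine Finset.sum_eq_zero fun k _ => ?_
        have h3 := congrArg (fun z => resR e z * c ⟨k⟩ q) (h2 ⟨d, hd⟩ k)
        simp only [resR, map_sum, map_mul, map_zero, zero_mul, Finset.sum_mul] at h3
        refine Eq.trans (Finset.sum_congr rfl fun i _ => ?_) h3
        simp only [resR, op_comp, O.obj.map_comp, CommRingCat.hom_comp, RingHom.comp_apply]
        ring

/-- Finitely many relations are simultaneously locally trivial. -/
theorem LocRel.multi (h : LocRel F) {U : C} {α : Type u} [Fintype α] {β : Type*} [Fintype β]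
    (r : β → α → O.obj.obj (op U)) (s : α → ModSite.sect F U) (hr : ∀ b, ∑ i, r b i • s i = 0) :
    trivSieve r s ∈ J U := by
  refine J.superset_covering (fun V g hg => ?_) (h.finset r s Finset.univ fun b _ => hr b)
  obtain ⟨l, t, a, h1, h2⟩ := hg
  exact ⟨l, t, a, h1, fun b k => h2 ⟨b, Finset.mem_univ b⟩ k⟩

/-- A zero element of a tensor product, lifted to the free module on the second factor. -/
theorem exists_lift_of_zero {R : Type u} [CommRing R] {M M' N : Type u} [AddCommGroup M] [Module R M]
    [AddCommGroup M'] [Module R M'] [AddCommGroup N] [Module R N] (f : M →ₗ[R] M') (z : M ⊗[R] N)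
    (hz : f.rTensor N z = 0) :
    ∃ (T : Finset N) (c : N → M) (k : ℕ) (r : Fin k → N → R) (y : Fin k → M'),
      z = ∑ t ∈ T, c t ⊗ₜ[R] t ∧ (∀ j, ∑ t ∈ T, r j t • t = 0) ∧
        ∀ t ∈ T, f (c t) = ∑ j, r j t • y j := by
  classical
  let π : (N →₀ R) →ₗ[R] N := Finsupp.linearCombination R id
  have hπ : Function.Surjective π := fun n => ⟨Finsupp.single n 1, by simp [π]⟩
  let co : ∀ (P : Type u) [AddCommGroup P] [Module R P], P ⊗[R] (N →₀ R) →ₗ[R] N →₀ P := fun P _ _ =>
    (TensorProduct.finsuppScalarRight R R P N).toLinearMap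
  obtain ⟨zt, rfl⟩ := LinearMap.lTensor_surjective M hπ z
  have hex : Function.Exact (LinearMap.ker π).subtype π := π.exact_subtype_ker_map
  have h0 : LinearMap.lTensor M' π (f.rTensor (N →₀ R) zt) = 0 := by
    rw [← LinearMap.comp_apply, LinearMap.lTensor_comp_rTensor, ← LinearMap.rTensor_comp_lTensor,
      LinearMap.comp_apply, hz]
  have hex' : Function.Exact (LinearMap.lTensor M' (LinearMap.ker π).subtype) (LinearMap.lTensor M' π) :=
    lTensor_exact (R := R) (N := N →₀ R) (P := N) (M := ↥(LinearMap.ker π)) M' hex hπ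
  obtain ⟨wk, hwk⟩ := (hex' _).1 h0
  obtain ⟨S, rfl⟩ := TensorProduct.exists_finset wk
  let e := S.equivFin.symm
  let c : N →₀ M := co M zt
  have hzt : zt = c.sum fun t m => m ⊗ₜ[R] Finsupp.single t 1 := by
    refine ((TensorProduct.finsuppScalarRight R R M N).symm_apply_apply zt).symm.trans ?_
    change (TensorProduct.finsuppScalarRight R R M N).symm c = _
    conv_lhs => rw [← c.sum_single, Finsupp.sum, map_sum]
    exact Finset.sum_congr rfl fun t _ => TensorProduct.finsuppScalarRight_symm_apply_single t (c t)
  let T : Finset N := c.support ∪ S.biUnion fun p => (p.2 : N →₀ R).support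
  refine ⟨T, c, S.card, fun j t => ((e j).1.2 : N →₀ R) t, fun j => (e j).1.1, ?_, fun j => ?_, fun t _ => ?_⟩
  · refine (congrArg (LinearMap.lTensor M π) hzt).trans ?_
    rw [Finsupp.sum_of_support_subset c (s := T) Finset.subset_union_left
      (fun t m => m ⊗ₜ[R] Finsupp.single t 1) (fun t _ => zero_tmul _ _), map_sum]
    exact Finset.sum_congr rfl fun t _ => by simp [π]
  · have hker : π ((e j).1.2 : N →₀ R) = 0 := (e j).1.2.2
    refine Eq.trans ?_ hker
    rw [Finsupp.linearCombination_apply, Finsupp.sum_of_support_subset _ (s := T) ?_ (fun (i : N) (a : R) => a • id i) (fun t _ => zero_smul R _)]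
    · rfl
    · exact (Finset.subset_biUnion_of_mem (fun p : M' × (LinearMap.ker π) => (p.2 : N →₀ R).support)
        (e j).2).trans Finset.subset_union_right
  · have h1 : ∀ x : M ⊗[R] (N →₀ R), co M' (f.rTensor _ x) t = f (co M x t) := by
      intro x
      induction x using TensorProduct.induction_on with
      | zero => simp
      | tmul m g => simp [co]
      | add a b ha hb => simp only [map_add, Finsupp.add_apply, ha, hb]
    refine (h1 zt).symm.trans ?_
    rw [← hwk, map_sum, map_sum, Finsupp.finsetSum_apply]
    refine Eq.trans (Finset.sum_coe_sort S (fun p => (co M' ((LinearMap.lTensor M' (LinearMap.ker π).subtype)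
      (p.1 ⊗ₜ[R] p.2))) t)).symm ?_
    refine (Fintype.sum_equiv e _ _ fun j => ?_).symm
    simp [co]

end GrothLib.FlatRel25
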