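import Groth.Agent.Lib.FlatRel25.Local
import Groth.Agent.Lib.SheafCoh.Acyclic
import Groth.Agent.Lib.SiteDer.ModGen

/-!
# Flat sheaves of modules and linear relations
-/

universe u

open CategoryTheory Opposite Limits MonoidalCategory TensorProduct GrothLib.SheafCoh

namespace GrothLib.FlatRel25

variable {C : Type u} [SmallCategory C] {J : GrothendieckTopology C} {O : Sheaf J CommRingCat.{u}}
  {F : ModSite.Mod O}

variable (F) in
/-- `- ⊗ F` on presheaves, then sheafified. -/
noncomputable abbrev TP : PMod' O ⥤ ModSite.Mod O :=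
  tensorRight ((forgetP O).obj F) ⋙ shf O

variable (F) in
/-- It is sheafification followed by `- ⊗ F`. -/
noncomputable def tpIso : TP F ≅ shf O ⋙ GrothLib.ModFlat.T F :=
  shfCompTensorIso O ((forgetP O).obj F) ≪≫ Functor.isoWhiskerLeft (shf O) (tensorBiIso O F).symm

theorem locallyInjective_tensor_of_locRel (h : LocRel F) {M M' : PMod' O} (f : M ⟶ M') [Mono f] :
    Presheaf.IsLocallyInjective J
      ((PresheafOfModules.toPresheaf _).map (f ▷ (forgetP O).obj F)) := by
  classical
  refine ⟨fun {X} z z' hzz => ?_⟩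
  obtain ⟨U⟩ := X
  let fU : M.obj (op U) →ₗ[(O.obj.obj (op U))] M'.obj (op U) := (f.app (op U)).hom
  let zz := (show M.obj (op U) ⊗[(O.obj.obj (op U))] F.val.obj (op U) from z)
  let zz' := (show M.obj (op U) ⊗[(O.obj.obj (op U))] F.val.obj (op U) from z')
  have h0 : fU.rTensor (F.val.obj (op U)) (zz - zz') = 0 := by
    rw [map_sub, sub_eq_zero]
    exact hzz
  obtain ⟨T, c, k, r, y, hz, hrel, hfc⟩ := exists_lift_of_zero fU (zz - zz') h0
  refine J.superset_covering (fun V g hg => ?_)
    (h.multi (U := U) (α := {t // t ∈ T}) (fun (j : Fin k) t => r j t.1) (fun t => t.1) fun j =>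
      (Finset.sum_coe_sort T fun t => r j t • t).trans (hrel j))
  obtain ⟨l, t, a, h1, h2⟩ := hg
  let P := M ⊗ (forgetP O).obj F
  let resM : M.obj (op U) →+ M.obj (op V) := AddMonoidHom.mk' (fun m => M.map g.op m) fun _ _ => map_add _ _ _
  let resM' : M'.obj (op U) →+ M'.obj (op V) := AddMonoidHom.mk' (fun m => M'.map g.op m) fun _ _ => map_add _ _ _
  let fV : M.obj (op V) →ₗ[(O.obj.obj (op V))] M'.obj (op V) := (f.app (op V)).hom
  have hfV : Function.Injective fV := by
    have : Mono ((PresheafOfModules.evaluation _ (op V)).map f) := Functor.map_mono _ _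
    exact (ModuleCat.mono_iff_injective _).1 this
  have hcoef : ∀ q : Fin l, ∑ x : {t // t ∈ T}, a x q • resM (c x.1) = 0 := by
    intro q
    refine hfV ((map_sum fV _ _).trans (Eq.trans ?_ (map_zero fV).symm))
    have hn : ∀ x : {t // t ∈ T}, fV (resM (c x.1)) = ∑ j, resR g (r j x.1) • resM' (y j) := fun x => by
      refine (PresheafOfModules.naturality_apply f g.op (c x.1)).trans ?_
      change resM' (fU (c x.1)) = _
      rw [hfc x.1 x.2, map_sum]
      exact Finset.sum_congr rfl fun j _ => M'.map_smul g.op _ _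
    simp only [map_smul, hn, Finset.smul_sum, smul_smul]
    rw [Finset.sum_comm]
    refine Finset.sum_eq_zero fun j _ => ?_
    rw [← Finset.sum_smul]
    exact (congrArg (· • resM' (y j)) (h2 j q)).trans (zero_smul (O.obj.obj (op V)) _)
  change P.presheaf.map g.op z = P.presheaf.map g.op z'
  rw [← sub_eq_zero, ← map_sub]
  have key : P.presheaf.map g.op (zz - zz') =
      (∑ x : {t // t ∈ T}, resM (c x.1) ⊗ₜ[(O.obj.obj (op V))] (res F g x.1) : M.obj (op V) ⊗[(O.obj.obj (op V))] F.val.obj (op V)) := by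
    rw [hz, ← Finset.sum_coe_sort]
    exact (map_sum (P.presheaf.map g.op).hom _ _).trans (Finset.sum_congr rfl fun x _ => rfl)
  refine key.trans ?_
  have e : (∑ x : {t // t ∈ T}, resM (c x.1) ⊗ₜ[(O.obj.obj (op V))] (res F g x.1) : M.obj (op V) ⊗[(O.obj.obj (op V))] F.val.obj (op V)) =
      ∑ q, (∑ x : {t // t ∈ T}, a x q • resM (c x.1)) ⊗ₜ[(O.obj.obj (op V))] (show F.val.obj (op V) from t q) := by
    simp only [h1, TensorProduct.tmul_sum, TensorProduct.sum_tmul]
    rw [Finset.sum_comm]
    exact Finset.sum_congr rfl fun q _ => Finset.sum_congr rfl fun x _ => (TensorProduct.smul_tmul _ _ _).symm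
  rw [e]
  exact Finset.sum_eq_zero fun q _ => (congrArg (fun m => m ⊗ₜ[O.obj.obj (op V)] (show F.val.obj (op V) from t q)) (hcoef q)).trans (TensorProduct.zero_tmul _ _)

theorem isFlat_of_locRel (h : LocRel F) : ModSite.IsFlat F := by
  rw [ModFlat.isFlat_iff]
  have : (forgetP O ⋙ tensorRight ((forgetP O).obj F) ⋙ shf O).PreservesMonomorphisms :=
    ⟨fun {M M'} f _ => by
      have : (forgetP O).IsRightAdjoint := (shfAdj O).isRightAdjoint
      have : Mono ((forgetP O).map f) := inferInstance
      have := locallyInjective_tensor_of_locRel h ((forgetP O).map f)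
      let φ := (PresheafOfModules.toPresheaf _).map ((forgetP O).map f ▷ (forgetP O).obj F)
      have h2 : Sheaf.IsLocallyInjective ((presheafToSheaf J AddCommGrpCat.{u}).map φ) :=
        (Presheaf.isLocallyInjective_presheafToSheaf_map_iff J _).2 this
      have h3 : Mono ((presheafToSheaf J AddCommGrpCat.{u}).map φ) := Sheaf.mono_of_isLocallyInjective _
      exact (SheafOfModules.toSheaf (ModSite.ringSh O)).mono_of_mono_map h3⟩
  exact Functor.PreservesMonomorphisms.of_iso (tensorBiIso O F).symm

/-- Local lifting along an exact sequence. -/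
theorem exists_local_lift (S : ShortComplex (Sheaf J AddCommGrpCat.{u})) (hS : S.Exact) {U : C}
    (s : S.X₂.obj.obj (op U)) (hs : S.g.hom.app (op U) s = 0) :
    Presheaf.imageSieve S.f.hom s ∈ J U := by
  let S' : ShortComplex (Sheaf J AddCommGrpCat.{u}) := ShortComplex.mk (kernel.ι S.g) S.g (kernel.condition _)
  have hS' : S'.Exact := ShortComplex.exact_of_f_is_kernel _ (kernelIsKernel S.g)
  have : Mono S'.f := inferInstanceAs (Mono (kernel.ι S.g))
  obtain ⟨y, hy⟩ := (ShortComplex.ab_exact_iff _).1 ((hS'.map_of_mono_of_preservesKernel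
    (sheafToPresheaf J AddCommGrpCat.{u}) inferInstance inferInstance).map
      ((evaluation _ _).obj (op U))) s hs
  have : Epi (kernel.lift S.g S.f S.zero) := (S.exact_iff_epi_kernel_lift).1 hS
  refine J.superset_covering (fun V g hg => ?_) (imageSieve_mem_of_epi (kernel.lift S.g S.f S.zero) y)
  obtain ⟨x, hx⟩ := hg
  refine ⟨x, ?_⟩
  have h1 : S.f.hom.app (op V) x = (kernel.ι S.g).hom.app (op V) ((kernel.lift S.g S.f S.zero).hom.app (op V) x) :=
    (ConcreteCategory.congr_hom (congrArg (fun t => t.hom.app (op V)) (kernel.lift_ι S.g S.f S.zero)) x).symm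
  refine h1.trans ((congrArg _ hx).trans ?_)
  refine (ConcreteCategory.congr_hom ((kernel.ι S.g).hom.naturality g.op) y).trans ?_
  exact congrArg (S.X₂.obj.map g.op) hy

variable {n : ℕ} {U : C}

variable (n U) in
/-- The set-valued presheaf under the free module of rank `n` on `U`. -/
def tuples : Cᵒᵖ ⥤ Type u where
  obj V := Fin n × (V.unop ⟶ U)
  map g := ↾fun p => (p.1, g.unop ≫ p.2)
  map_id V := by ext p <;> simp
  map_comp g h := by ext p <;> simp

variable (f : Fin n → O.obj.obj (op U))

/-- The family of scalars as a map of free modules. -/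
noncomputable def relMap :
    (PresheafOfModules.free (O.obj ⋙ forget₂ CommRingCat.{u} RingCat.{u})).obj (tuples n U) ⟶
      ModFlat.freeP O U :=
  PresheafOfModules.freeHomEquiv.symm
    { app := fun V => ↾fun p => (Finsupp.single p.2 (resR p.2 (f p.1)) : (V.unop ⟶ U) →₀ O.obj.obj V)
      naturality := fun V W g => by
        ext p
        change (Finsupp.single (g.unop ≫ p.2) (resR (g.unop ≫ p.2) (f p.1)) : (W.unop ⟶ U) →₀ O.obj.obj W) =
          (ModFlat.freeP O U).map g (Finsupp.single p.2 (resR p.2 (f p.1)))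
        have h1 : (Finsupp.single p.2 (resR p.2 (f p.1)) : (V.unop ⟶ U) →₀ O.obj.obj V) =
            resR p.2 (f p.1) • Finsupp.single p.2 1 := by simp
        refine Eq.symm ((congrArg (fun t => (ModFlat.freeP O U).map g t) h1).trans ?_)
        refine ((ModFlat.freeP O U).map_smul g (resR p.2 (f p.1)) (Finsupp.single p.2 (1 : O.obj.obj V))).trans ?_
        refine (congrArg (resR (O := O) g.unop (resR p.2 (f p.1)) • ·) (show (ModFlat.freeP O U).map g (Finsupp.single p.2 1) =
          (Finsupp.single (g.unop ≫ p.2) 1 : (W.unop ⟶ U) →₀ O.obj.obj W) from ?_)).trans ?_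
        · exact ModuleCat.freeDesc_apply _ _
        · refine (Finsupp.smul_single _ _ _).trans (congrArg _ ?_)
          rw [smul_eq_mul, mul_one]
          exact resR_resR p.2 g.unop _ }

theorem relMap_app_single (V : Cᵒᵖ) (p : Fin n × (V.unop ⟶ U)) (c : O.obj.obj V) :
    ((relMap f).app V (Finsupp.single p c) : (V.unop ⟶ U) →₀ O.obj.obj V) =
      Finsupp.single p.2 (c * resR p.2 (f p.1)) := by
  have h : (relMap f).app V (Finsupp.single p 1) =
      (Finsupp.single p.2 (resR p.2 (f p.1)) : (V.unop ⟶ U) →₀ O.obj.obj V) := ModuleCat.freeDesc_apply _ _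
  have h1 : (Finsupp.single p c : (Fin n × (V.unop ⟶ U)) →₀ O.obj.obj V) = c • Finsupp.single p 1 := by simp
  refine (congrArg (fun t => (relMap f).app V t) h1).trans ((map_smul ((relMap f).app V).hom _ _).trans ?_)
  refine (congrArg (c • ·) h).trans ((Finsupp.smul_single _ _ _).trans ?_)
  rw [smul_eq_mul]

theorem locRel_of_isFlat (hF : ModSite.IsFlat F) : LocRel F := by
  classical
  refine locRel_of_fin F fun U n f s hs => ?_
  let π := relMap f
  let S : ShortComplex (PMod' O) := ShortComplex.mk (kernel.ι π) π (kernel.condition π)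
  have hS : S.Exact := ShortComplex.exact_of_f_is_kernel _ (kernelIsKernel π)
  have : Mono S.f := inferInstanceAs (Mono (kernel.ι π))
  have : PreservesFiniteLimits (GrothLib.ModFlat.T F) := hF.1
  have : PreservesFiniteLimits (shf O) :=
    inferInstanceAs (PreservesFiniteLimits (PresheafOfModules.sheafification.{u} (𝟙 (ModSite.ringSh O).obj)))
  have : PreservesFiniteLimits (TP F) := preservesFiniteLimits_of_natIso (tpIso F).symm
  have : (TP F).Additive := Functor.additive_of_preserves_binary_products _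
  have := GrothLib.SiteDer.preservesFiniteColimits_toSheaf (ModSite.ringSh O)
  have hX : ((S.map (TP F)).map (SheafOfModules.toSheaf (ModSite.ringSh O))).Exact :=
    (hS.map_of_mono_of_preservesKernel (TP F) inferInstance inferInstance).map
      (SheafOfModules.toSheaf (ModSite.ringSh O))
  let Q := (PresheafOfModules.free (O.obj ⋙ forget₂ CommRingCat.{u} RingCat.{u})).obj (tuples n U)
  let F' := (forgetP O).obj F
  let e0 : ((Fin n × (U ⟶ U)) →₀ (O.obj.obj (op U))) ⊗[(O.obj.obj (op U))] F.val.obj (op U) :=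
    ∑ i, Finsupp.single (i, 𝟙 U) 1 ⊗ₜ (show F.val.obj (op U) from s i)
  have hid : ∀ r : O.obj.obj (op U), resR (𝟙 U) r = r := fun r => by rw [resR, op_id, O.obj.map_id]; rfl
  have he0 : ((PresheafOfModules.toPresheaf _).map (π ▷ F')).app (op U) e0 = 0 := by
    refine (map_sum _ _ _).trans ?_
    have : ∀ i : Fin n, ((PresheafOfModules.toPresheaf _).map (π ▷ F')).app (op U)
        (Finsupp.single (i, 𝟙 U) 1 ⊗ₜ[(O.obj.obj (op U))] (show F.val.obj (op U) from s i)) =
        ((Finsupp.single (𝟙 U) 1 : (U ⟶ U) →₀ (O.obj.obj (op U))) ⊗ₜ[(O.obj.obj (op U))]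
          (show F.val.obj (op U) from f i • s i) : ((U ⟶ U) →₀ (O.obj.obj (op U))) ⊗[(O.obj.obj (op U))] F.val.obj (op U)) := by
      intro i
      refine (presheaf_whiskerRight_tmul π F' (op U) _ _).trans ?_
      refine (congrArg (fun t : (U ⟶ U) →₀ (O.obj.obj (op U)) => t ⊗ₜ[(O.obj.obj (op U))] (show F.val.obj (op U) from s i))
        (relMap_app_single f (op U) (i, 𝟙 U) 1)).trans ?_
      rw [one_mul, hid]
      refine Eq.trans ?_ (TensorProduct.smul_tmul (f i) _ _)
      rw [Finsupp.smul_single, smul_eq_mul, mul_one]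
    refine (Finset.sum_congr rfl fun i _ => this i).trans ?_
    refine (TensorProduct.tmul_sum _ _ _).symm.trans ?_
    rw [show (∑ i, (show F.val.obj (op U) from f i • s i)) = 0 from hs]
    exact TensorProduct.tmul_zero _ _
  let η : ∀ P : PMod' O, P.presheaf ⟶ ((SheafOfModules.toSheaf (ModSite.ringSh O)).obj ((shf O).obj P)).obj :=
    fun P => CategoryTheory.toSheafify J P.presheaf
  have hη : ∀ {P P' : PMod' O} (φ : P ⟶ P') (V : Cᵒᵖ) (x : P.presheaf.obj V),
      ((SheafOfModules.toSheaf (ModSite.ringSh O)).map ((shf O).map φ)).hom.app V ((η P).app V x) =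
        (η P').app V (((PresheafOfModules.toPresheaf _).map φ).app V x) := fun φ V x =>
    (ConcreteCategory.congr_hom (NatTrans.congr_app
      (toSheafify_naturality J ((PresheafOfModules.toPresheaf _).map φ)) V) x).symm
  have hmem := exists_local_lift _ hX ((η (Q ⊗ F')).app (op U) e0) (by
    refine (hη (π ▷ F') (op U) e0).trans ?_
    rw [he0]
    exact map_zero _)
  refine ⟨trivSieve (F := F) (fun (_ : Unit) => f) s, ?_, fun V g hg => ?_⟩
  swap
  · obtain ⟨l, t, a, h1, h2⟩ := hg
    exact ⟨l, t, a, h1, fun k => h2 () k⟩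
  refine J.transitive hmem _ fun V g hg => ?_
  obtain ⟨y, hy⟩ := hg
  let Kp := kernel π ⊗ F'
  have : Presheaf.IsLocallySurjective J (η Kp) := (J.W_toSheafify _).isLocallySurjective
  refine J.transitive (Presheaf.imageSieve_mem J (η Kp) y) _ fun W e he => ?_
  obtain ⟨x, hx⟩ := he
  have hW : (η (Q ⊗ F')).app (op W) (((PresheafOfModules.toPresheaf _).map (kernel.ι π ▷ F')).app (op W) x) =
      (η (Q ⊗ F')).app (op W) ((Q ⊗ F').presheaf.map (e ≫ g).op e0) := by
    refine (hη (kernel.ι π ▷ F') (op W) x).symm.trans ?_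
    refine (congrArg _ hx).trans ?_
    refine (ConcreteCategory.congr_hom
      (((SheafOfModules.toSheaf (ModSite.ringSh O)).map ((shf O).map (kernel.ι π ▷ F'))).hom.naturality e.op) y).trans ?_
    refine (congrArg _ hy).trans ?_
    refine (SheafCoh.presheaf_map_map _ g.op e.op _).trans ?_
    exact (NatTrans.naturality_apply (η (Q ⊗ F')) (g.op ≫ e.op) e0).symm
  have : Presheaf.IsLocallyInjective J (η (Q ⊗ F')) := (J.W_toSheafify _).isLocallyInjective
  refine J.superset_covering (fun W' d hd => ?_) (Presheaf.equalizerSieve_mem J (η (Q ⊗ F')) _ _ hW)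
  let g' : W' ⟶ U := d ≫ e ≫ g
  let V' : Cᵒᵖ := op W'
  let z : (kernel π).obj V' ⊗[(O.obj.obj V')] F.val.obj V' := Kp.presheaf.map d.op x
  have hz : ((PresheafOfModules.toPresheaf _).map (kernel.ι π ▷ F')).app V' z =
      (Q ⊗ F').presheaf.map g'.op e0 := by
    refine (NatTrans.naturality_apply ((PresheafOfModules.toPresheaf _).map (kernel.ι π ▷ F')) d.op x).trans ?_
    refine hd.trans ?_
    exact SheafCoh.presheaf_map_map _ _ _ _
  let proj : Fin n → ((Fin n × (W' ⟶ U)) →₀ (O.obj.obj V')) ⊗[(O.obj.obj V')] F.val.obj V' →ₗ[(O.obj.obj V')] F.val.obj V' := fun i =>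
    (TensorProduct.lid (O.obj.obj V') (F.val.obj V')).toLinearMap ∘ₗ
      LinearMap.rTensor (F.val.obj V') (Finsupp.lapply (i, g'))
  obtain ⟨S', hS'⟩ := TensorProduct.exists_finset z
  let en := S'.equivFin.symm
  let A : Fin n → Fin S'.card → (O.obj.obj V') := fun i k =>
    (show (Fin n × (W' ⟶ U)) →₀ (O.obj.obj V') from (kernel.ι π).app V' (en k).1.1) (i, g')
  change Triv F ((d ≫ e) ≫ g) _ s
  rw [Category.assoc]
  refine ⟨S'.card, fun k => (en k).1.2, A, fun i => ?_, fun _ k => ?_⟩
  · have h1 := congrArg (proj i) hz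
    refine Eq.trans (b := proj i (((Q ⊗ F').presheaf.map g'.op).hom e0)) ?_ (h1.symm.trans ?_)
    · refine Eq.trans ?_ ((congrArg (proj i) (map_sum ((Q ⊗ F').presheaf.map g'.op).hom _ _)).trans (map_sum (proj i) _ _)).symm
      refine (Eq.trans (b := ∑ j, (Finsupp.single (j, g') (1 : O.obj.obj V') (i, g')) • res F g' (s j)) ?_ (Finset.sum_congr rfl fun j _ => ?_).symm)
      rotate_left
      · change proj i (Q.map g'.op (Finsupp.single (j, 𝟙 U) 1) ⊗ₜ[(O.obj.obj V')] F.val.map g'.op (s j)) = _
        rw [show (Q.map g'.op (Finsupp.single (j, 𝟙 U) 1) : (Fin n × (W' ⟶ U)) →₀ (O.obj.obj V')) =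
          Finsupp.single (j, g' ≫ 𝟙 U) 1 from ModuleCat.freeDesc_apply _ _, Category.comp_id]
        exact (TensorProduct.lid_tmul _ _).trans rfl
      · rw [Finset.sum_eq_single i]
        · change res F g' (s i) = (Finsupp.single (i, g') (1 : (O.obj.obj V')) (i, g')) • res F g' (s i)
          rw [Finsupp.single_eq_same]
          exact (one_smul (O.obj.obj V') _).symm
        · intro j _ hj
          have : (Finsupp.single (j, g') (1 : (O.obj.obj V'))) (i, g') = 0 :=
            Finsupp.single_eq_of_ne (fun h => hj (Prod.ext_iff.1 h).1.symm)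
          change (Finsupp.single (j, g') (1 : (O.obj.obj V')) (i, g')) • res F g' (s j) = 0
          rw [this]
          exact zero_smul (O.obj.obj V') _
        · exact fun h => absurd (Finset.mem_univ i) h
    · refine (congrArg (fun w => proj i (((PresheafOfModules.toPresheaf _).map (kernel.ι π ▷ F')).app V' w)) hS').trans ?_
      refine (congrArg (proj i) (map_sum _ _ _)).trans ((map_sum (proj i) _ _).trans ?_)
      rw [← Finset.sum_coe_sort]
      refine (Fintype.sum_equiv en _ _ fun k => ?_).symm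
      exact (TensorProduct.lid_tmul _ _).symm
  · let x0 : (Fin n × (W' ⟶ U)) →₀ (O.obj.obj V') := (kernel.ι π).app V' (en k).1.1
    let L : ((Fin n × (W' ⟶ U)) →₀ O.obj.obj V') →ₗ[O.obj.obj V'] ((W' ⟶ U) →₀ O.obj.obj V') := (π.app V').hom
    have h0 : L x0 = 0 :=
      ConcreteCategory.congr_hom (congrArg (fun t : kernel π ⟶ _ => t.app V') (kernel.condition π)) (en k).1.1
    have h1 : ∀ w : (Fin n × (W' ⟶ U)) →₀ (O.obj.obj V'), L w g' =
        ∑ i, w (i, g') * resR g' (f i) := by
      intro w
      induction w using Finsupp.induction_linear with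
      | zero => simp
      | add a b ha hb =>
        refine (congrArg (fun t : (W' ⟶ U) →₀ (O.obj.obj V') => t g') (map_add L a b)).trans ?_
        simp only [Finsupp.add_apply, add_mul, Finset.sum_add_distrib]
        exact congrArg₂ (· + ·) ha hb
      | single p c =>
        refine (congrArg (fun t : (W' ⟶ U) →₀ (O.obj.obj V') => t g') (relMap_app_single f V' p c)).trans ?_
        obtain ⟨j, h⟩ := p
        by_cases hh : h = g'
        · subst hh
          rw [Finset.sum_eq_single j]
          · simp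
          · intro i _ hi
            rw [Finsupp.single_eq_of_ne (by simp [hi]), zero_mul]
          · simp
        · rw [Finsupp.single_eq_of_ne (Ne.symm hh)]
          refine (Finset.sum_eq_zero fun i _ => ?_).symm
          rw [Finsupp.single_eq_of_ne (by simp [Ne.symm hh]), zero_mul]
    exact (h1 x0).symm.trans (congrArg (fun t : (W' ⟶ U) →₀ (O.obj.obj V') => t g') h0)

end GrothLib.FlatRel25
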