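import Groth.Agent.Lib.FlatRel25.Flat
import Groth.Prelude.Def_ModSite2
import Mathlib.RingTheory.Flat.EquationalCriterion
import Mathlib.CategoryTheory.Sites.Point.Conservative

/-!
# Local triviality of relations and flatness of stalks
-/

universe u

open CategoryTheory Opposite Limits

namespace GrothLib.FlatRel25

variable {C : Type u} [SmallCategory C] {J : GrothendieckTopology C} {O : Sheaf J CommRingCat.{u}}
  {F : ModSite.Mod O} (p : GrothendieckTopology.Point.{u} J)

theorem germ_res {X Y : C} (g : Y ⟶ X) (y : p.fiber.obj Y) (s : ModSite.sect F X) :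
    ModSite.germ p F Y y (res F g s) = ModSite.germ p F X (p.fiber.map g y) s :=
  p.toPresheafFiber_w_apply g y (ModSite.toAb F).obj s

theorem germRing_res {X Y : C} (g : Y ⟶ X) (y : p.fiber.obj Y) (r : O.obj.obj (op X)) :
    ModSite.germRing p Y y (resR g r) = ModSite.germRing (O := O) p X (p.fiber.map g y) r :=
  p.toPresheafFiber_w_apply g y O.obj r

/-- Finitely many germs of sections and of functions are defined on a common neighbourhood refining a
given one. -/
theorem exists_common_nhd {X : C} (x : p.fiber.obj X) {ι κ : Type*} [Finite ι] [Finite κ]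
    (m : ι → ModSite.stalkMod p F) (r : κ → ModSite.stalkRing p O) :
    ∃ (Y : C) (g : Y ⟶ X) (y : p.fiber.obj Y) (s : ι → ModSite.sect F Y) (a : κ → O.obj.obj (op Y)),
      p.fiber.map g y = x ∧ (∀ i, ModSite.germ p F Y y (s i) = m i) ∧
        ∀ k, ModSite.germRing p Y y (a k) = r k := by
  classical
  cases nonempty_fintype ι
  cases nonempty_fintype κ
  choose Xs xs ss hss using fun i => p.toPresheafFiber_jointly_surjective (P := (ModSite.toAb F).obj) (m i)
  choose Xr xr ar har using fun k => p.toPresheafFiber_jointly_surjective (P := O.obj) (r k)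
  let T : Finset p.fiber.Elements := insert (Functor.elementsMk p.fiber X x)
    (Finset.univ.image (fun i => Functor.elementsMk p.fiber (Xs i) (xs i)) ∪
      Finset.univ.image (fun k => Functor.elementsMk p.fiber (Xr k) (xr k)))
  obtain ⟨S, hS⟩ := IsCofiltered.inf_objs_exists T
  let g0 := (hS (X := Functor.elementsMk p.fiber X x) (Finset.mem_insert_self _ _)).some
  let gs := fun i => (hS (X := Functor.elementsMk p.fiber (Xs i) (xs i))
    (Finset.mem_insert_of_mem (Finset.mem_union_left _ (Finset.mem_image_of_mem _ (Finset.mem_univ i))))).some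
  let gr := fun k => (hS (X := Functor.elementsMk p.fiber (Xr k) (xr k))
    (Finset.mem_insert_of_mem (Finset.mem_union_right _ (Finset.mem_image_of_mem _ (Finset.mem_univ k))))).some
  refine ⟨S.1, g0.1, S.2, fun i => res F (gs i).1 (ss i), fun k => resR (gr k).1 (ar k), g0.2,
    fun i => ?_, fun k => ?_⟩
  · refine (germ_res p (gs i).1 S.2 (ss i)).trans ?_
    exact (congrArg (fun t => ModSite.germ p F (Xs i) t (ss i)) (gs i).2).trans (hss i)
  · refine (germRing_res p (gr k).1 S.2 (ar k)).trans ?_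
    exact (congrArg (fun t => ModSite.germRing p (Xr k) t (ar k)) (gr k).2).trans (har k)

/-- Finitely many conditions that hold near the point hold on a common neighbourhood. -/
theorem exists_refine_all {X : C} (x : p.fiber.obj X) {ι : Type*} (T : Finset ι)
    (Q : ι → ∀ ⦃Y : C⦄, (Y ⟶ X) → Prop)
    (hdown : ∀ i ⦃Y Z : C⦄ (f : Y ⟶ X) (h : Z ⟶ Y), Q i f → Q i (h ≫ f))
    (hQ : ∀ i ∈ T, ∀ (Y : C) (f : Y ⟶ X) (y : p.fiber.obj Y), p.fiber.map f y = x →
      ∃ (Z : C) (h : Z ⟶ Y) (z : p.fiber.obj Z), p.fiber.map h z = y ∧ Q i (h ≫ f)) :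
    ∃ (Y : C) (f : Y ⟶ X) (y : p.fiber.obj Y), p.fiber.map f y = x ∧ ∀ i ∈ T, Q i f := by
  classical
  induction T using Finset.induction_on with
  | empty => exact ⟨X, 𝟙 X, x, by simp, fun i hi => absurd hi (Finset.notMem_empty i)⟩
  | insert b T hb ih =>
    obtain ⟨Y, f, y, hy, hall⟩ := ih fun i hi => hQ i (Finset.mem_insert_of_mem hi)
    obtain ⟨Z, h, z, hz, hb'⟩ := hQ b (Finset.mem_insert_self b T) Y f y hy
    refine ⟨Z, h ≫ f, z, ?_, fun i hi => ?_⟩
    · rw [Functor.map_comp]
      exact (congrArg (p.fiber.map f) hz).trans hy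
    · rcases Finset.mem_insert.1 hi with rfl | hi
      · exact hb'
      · exact hdown i f h (hall i hi)

theorem exists_res_eq {X : C} (x : p.fiber.obj X) {ι : Type*} [Finite ι]
    (s s' : ι → ModSite.sect F X) (h : ∀ i, ModSite.germ p F X x (s i) = ModSite.germ p F X x (s' i)) :
    ∃ (Y : C) (f : Y ⟶ X) (y : p.fiber.obj Y), p.fiber.map f y = x ∧
      ∀ i, res F f (s i) = res F f (s' i) := by
  cases nonempty_fintype ι
  obtain ⟨Y, f, y, hy, hall⟩ := exists_refine_all p x (Finset.univ : Finset ι)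
    (fun i Y f => res F f (s i) = res F f (s' i))
    (fun i Y Z f h e => by rw [← res_res, ← res_res, e])
    (fun i _ Y f y hy => by
      have e : ModSite.germ p F Y y (res F f (s i)) = ModSite.germ p F Y y (res F f (s' i)) := by
        rw [germ_res, germ_res, hy]
        exact h i
      obtain ⟨Z, g, z, hz, hz'⟩ := (p.toPresheafFiber_eq_iff' Y y _ _).1 e
      exact ⟨Z, g, z, hz, (res_res F f g (s i)).symm.trans (hz'.trans (res_res F f g (s' i)))⟩)
  exact ⟨Y, f, y, hy, fun i => hall i (Finset.mem_univ i)⟩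

theorem exists_resR_eq {X : C} (x : p.fiber.obj X) {ι : Type*} [Finite ι]
    (r r' : ι → O.obj.obj (op X)) (h : ∀ i, ModSite.germRing p X x (r i) = ModSite.germRing p X x (r' i)) :
    ∃ (Y : C) (f : Y ⟶ X) (y : p.fiber.obj Y), p.fiber.map f y = x ∧
      ∀ i, resR f (r i) = resR f (r' i) := by
  cases nonempty_fintype ι
  obtain ⟨Y, f, y, hy, hall⟩ := exists_refine_all p x (Finset.univ : Finset ι)
    (fun i Y f => resR f (r i) = resR f (r' i))
    (fun i Y Z f h e => by rw [← resR_resR, ← resR_resR, e])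
    (fun i _ Y f y hy => by
      have e : ModSite.germRing p Y y (resR f (r i)) = ModSite.germRing p Y y (resR f (r' i)) := by
        rw [germRing_res, germRing_res, hy]
        exact h i
      obtain ⟨Z, g, z, hz, hz'⟩ := (p.toPresheafFiber_eq_iff' Y y _ _).1 e
      exact ⟨Z, g, z, hz, (resR_resR f g (r i)).symm.trans (hz'.trans (resR_resR f g (r' i)))⟩)
  exact ⟨Y, f, y, hy, fun i => hall i (Finset.mem_univ i)⟩

theorem germ_sum_smul {X : C} (x : p.fiber.obj X) {α : Type*} [Fintype α] (a : α → O.obj.obj (op X))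
    (s : α → ModSite.sect F X) :
    ModSite.germ p F X x (∑ i, a i • s i) =
      ∑ i, ModSite.germRing p X x (a i) • ModSite.germ p F X x (s i) :=
  (map_sum (p.toPresheafFiber X x (ModSite.toAb F).obj).hom _ _).trans
    (Finset.sum_congr rfl fun i _ => ModSite.germ_smul p F X x (a i) (s i))

/-- Local triviality of relations implies flatness of every stalk. -/
theorem flat_stalk_of_locRel (h : LocRel F) :
    Module.Flat (ModSite.stalkRing p O) (ModSite.stalkMod p F) := by
  rw [Module.Flat.iff_forall_isTrivialRelation]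
  intro n f m hrel
  obtain ⟨X₀, x₀⟩ := (IsCofiltered.nonempty (C := p.fiber.Elements)).some
  obtain ⟨X, -, x, s, a, -, hs, ha⟩ := exists_common_nhd (F := F) p x₀ m f
  have h0 : ModSite.germ p F X x (∑ i, a i • s i) = ModSite.germ p F X x 0 := by
    rw [germ_sum_smul]
    refine Eq.trans ?_ (map_zero (p.toPresheafFiber X x (ModSite.toAb F).obj).hom).symm
    refine Eq.trans ?_ hrel
    exact Finset.sum_congr rfl fun i _ => by rw [hs, ha]
  obtain ⟨Y, g, y, hy, hY⟩ := exists_res_eq p x (fun _ : Unit => ∑ i, a i • s i) (fun _ => 0) fun _ => h0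
  let e : ULift.{u} (Fin n) ≃ Fin n := Equiv.ulift
  have hrel' : ∑ i : ULift.{u} (Fin n), resR g (a (e i)) • res F g (s (e i)) = 0 := by
    refine (e.sum_comp fun i => resR g (a i) • res F g (s i)).trans ?_
    refine Eq.trans ?_ ((hY ()).trans (map_zero _))
    rw [map_sum]
    exact Finset.sum_congr rfl fun i _ => (res_smul F g _ _).symm
  obtain ⟨V, k, hk, v, hv⟩ := p.jointly_surjective _ (h Y _ _ _ hrel') y
  obtain ⟨l, t, b, h1, h2⟩ := hk
  refine ⟨l, fun i j => ModSite.germRing p V v (b ⟨i⟩ j), fun j => ModSite.germ p F V v (t j),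
    fun i => ?_, fun j => ?_⟩
  · refine Eq.trans ?_ (germ_sum_smul p v (fun j => b ⟨i⟩ j) t)
    refine Eq.trans ?_ (congrArg (ModSite.germ p F V v) (h1 ⟨i⟩))
    change m i = ModSite.germ p F V v (res F k (res F g (s i)))
    rw [germ_res, hv, germ_res, hy, hs]
  · refine Eq.trans ?_ ((congrArg (ModSite.germRing (O := O) p V v) (h2 () j)).trans (map_zero _))
    rw [ModSite.germRing, map_sum]
    refine (e.sum_comp fun i => f i * ModSite.germRing p V v (b ⟨i⟩ j)).symm.trans
      (Finset.sum_congr rfl fun i _ => ?_)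
    refine ((mul_comm _ _).trans ?_).trans (map_mul (p.toPresheafFiber V v O.obj).hom _ _).symm
    refine congrArg₂ (· * ·) rfl ?_
    change f (e i) = ModSite.germRing p V v (resR k (resR g (a (e i))))
    rw [germRing_res, hv, germRing_res, hy, ha]

/-- Flatness of the stalks at a conservative family of points implies local triviality of relations. -/
theorem locRel_of_flat_stalks (P : ObjectProperty (GrothendieckTopology.Point.{u} J))
    (hP : P.IsConservativeFamilyOfPoints)
    (hflat : ∀ q : GrothendieckTopology.Point.{u} J, P q →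
      Module.Flat (ModSite.stalkRing q O) (ModSite.stalkMod q F)) : LocRel F := by
  intro U α _ f s hrel
  let S := trivSieve (F := F) (fun (_ : Unit) => f) s
  refine J.superset_covering
    (S := Sieve.ofArrows (fun i : Σ V : C, {g : V ⟶ U // S g} => i.1) (fun i => i.2.1)) ?_ ?_
  · rw [Sieve.generate_le_iff]
    rintro V g ⟨i⟩
    exact i.2.2
  rw [hP.jointly_reflect_ofArrows_mem]
  rintro ⟨q, hq⟩ x
  have := hflat q hq
  have hrel' : ∑ i, ModSite.germRing q U x (f i) •
      (show ModSite.stalkMod q F from ModSite.germ q F U x (s i)) = 0 :=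
    ((germ_sum_smul q x f s).symm.trans (congrArg (ModSite.germ q F U x) hrel)).trans (map_zero _)
  obtain ⟨k, a, m, h1, h2⟩ := Module.Flat.isTrivialRelation_of_sum_smul_eq_zero hrel'
  obtain ⟨W, g, w, t, b, hw, ht, hb⟩ := exists_common_nhd (F := F) q x m (fun ij : α × Fin k => a ij.1 ij.2)
  obtain ⟨W₁, g₁, w₁, hw₁, hW₁⟩ := exists_res_eq q w (fun i => res F g (s i))
    (fun i => ∑ j, b (i, j) • t j) fun i => by
      rw [germ_res, hw]
      refine (h1 i).trans ?_
      rw [germ_sum_smul]
      exact Finset.sum_congr rfl fun j _ => by rw [hb, ht]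
  obtain ⟨W₂, g₂, w₂, hw₂, hW₂⟩ := exists_resR_eq q w₁
    (fun j => ∑ i, resR g₁ (b (i, j)) * resR g₁ (resR g (f i))) (fun _ => (0 : O.obj.obj (op W₁))) fun j => by
      refine Eq.trans ?_ (map_zero (q.toPresheafFiber W₁ w₁ O.obj).hom).symm
      refine Eq.trans ?_ (h2 j)
      refine (map_sum (q.toPresheafFiber W₁ w₁ O.obj).hom _ _).trans (Finset.sum_congr rfl fun i _ => ?_)
      refine (map_mul (q.toPresheafFiber W₁ w₁ O.obj).hom _ _).trans ((mul_comm _ _).trans ?_)
      change ModSite.germRing q W₁ w₁ (resR g₁ (resR g (f i))) * ModSite.germRing q W₁ w₁ (resR g₁ (b (i, j))) = _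
      rw [germRing_res, hw₁, germRing_res, hw, germRing_res, hw₁, hb]
  refine ⟨⟨W₂, (g₂ ≫ g₁) ≫ g, k, fun j => res F (g₂ ≫ g₁) (t j),
    fun i j => resR (g₂ ≫ g₁) (b (i, j)), fun i => ?_, fun _ j => ?_⟩, w₂, ?_⟩
  · rw [← res_res, ← res_res F g₁ g₂, hW₁ i, res_res, map_sum]
    exact Finset.sum_congr rfl fun j _ => res_smul F _ _ _
  · refine Eq.trans ?_ ((hW₂ j).trans (map_zero _))
    rw [resR, map_sum]
    refine Finset.sum_congr rfl fun i _ => ?_
    rw [map_mul]
    exact congrArg₂ (· * ·) (resR_resR g₁ g₂ (b (i, j))).symm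
      (((congrArg (resR g₂) (resR_resR g g₁ (f i))).trans (resR_resR _ g₂ (f i))).trans
        (by rw [Category.assoc])).symm
  · change q.fiber.map ((g₂ ≫ g₁) ≫ g) w₂ = x
    simp only [Functor.map_comp]
    change q.fiber.map g (q.fiber.map g₁ (q.fiber.map g₂ w₂)) = x
    rw [hw₂, hw₁, hw]

end GrothLib.FlatRel25
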